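import Cfsg.Agent.H896.Tri3.Fam3
import Cfsg.Agent.H17.CR.Orth
import Cfsg.Agent.H377.Elt

/-!
# Transitivity of `Cond {p, q}` for the symplectic and orthogonal groups in cross characteristic (helper896, task 2136,
for S4335)

* `crossTri_Sp`, `crossTri_PSp`;
* `crossTri_POmegaPlus`, `crossTri_POmegaMinus`, `crossTri_POmegaOdd`.
-/

set_option autoImplicit false
set_option linter.unusedSectionVars false

open Cfsg
open Cfsg.Agent.H749 (Iso vp)
open Cfsg.Agent.H630.NH Cfsg.Agent.H17.CR Cfsg.Agent.H165.TriRow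
open Cfsg.Agent.H377 Cfsg.Agent.LieClassical.OrthCore Cfsg.Agent.LieClassical.OrthForms Cfsg.Agent.H403.Classify QuadraticMap

namespace Cfsg.Agent.H896.Tri3

variable {F : Type} [Field F] [Fintype F]

/-- an isometry of finite order as an element of the group -/
theorem exists_elem {V : Type} [AddCommGroup V] [Module F V] [Finite V] (f : V → V → F) (g : Module.End F V) {N : ℕ}
    (hN : 0 < N) (ho : orderOf g = N) (hg : ∀ u v, f (g u) (g v) = f u v) :
    ∃ y : Iso f, orderOf y = N := by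
  have hu : IsUnit g := IsUnit.of_pow_eq_one (n := N) (by rw [← ho, pow_orderOf_eq_one]) hN.ne'
  obtain ⟨u, hu⟩ := hu
  let e := LinearMap.GeneralLinearGroup.generalLinearEquiv F V u
  have he : ∀ v, e v = g v := fun v => by rw [← hu]; rfl
  refine ⟨⟨e, fun a b => by rw [he, he, hg]⟩, ?_⟩
  have h1 : orderOf (⟨e, fun a b => by rw [he, he, hg]⟩ : Iso f) = orderOf e := Subgroup.orderOf_mk _ _
  rw [h1, MulEquiv.orderOf_eq (LinearMap.GeneralLinearGroup.generalLinearEquiv F V), ← orderOf_units, hu, ho]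

/-- **the torus of an atom** -/
theorem exists_torus {d : ℕ} (hd : 0 < d) {σ : ℤ} {M : Spc F} (hM : IsOE d σ M) :
    ∃ y : M.G, (orderOf y : ℤ) = (Fintype.card F : ℤ) ^ d - σ := by
  have hσ := hM.sign
  have key : ∀ N : ℕ, H377.Elt F d σ N → ∃ y : M.G, orderOf y = N := by
    rintro N ⟨hN, Q, g, hQ, hs, hg, ho⟩
    let X₀ : Spc F := { V := Fin (2 * d) → F, f := fun u _ => Q u }
    have h0 : IsOE d σ X₀ := ⟨Q, fun u v => rfl, hQ, by
      show Module.finrank F (Fin (2 * d) → F) = 2 * d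
      rw [Module.finrank_fin_fun], hs, hσ⟩
    obtain ⟨y, hy⟩ := exists_elem X₀.f g hN ho (fun u v => hg u)
    obtain ⟨e⟩ := h0.isoG hM
    exact ⟨e y, by rw [MulEquiv.orderOf_eq, hy]⟩
  have hc : Nat.card F = Fintype.card F := Nat.card_eq_fintype_card
  rcases hσ with rfl | rfl
  · obtain ⟨y, hy⟩ := key (Nat.card F ^ d - 1) (elt_tor_plus hd (dvd_refl _))
    refine ⟨y, ?_⟩
    rw [hy, hc, Nat.cast_sub (Nat.one_le_pow _ _ Fintype.card_pos)]
    push_cast
    rfl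
  · obtain ⟨y, hy⟩ := key (Nat.card F ^ d + 1) (elt_tor_minus hd (dvd_refl _))
    refine ⟨y, ?_⟩
    rw [hy, hc]
    push_cast
    ring

theorem vp_atom {p : ℕ} (hp : Good F p) :
    vp p ((Fintype.card F : ℤ) ^ dd F p - sg F p) = vv F p := by
  have h := vp_eps hp hp.dd_pos (sg_pm F p)
  have h1 : (dd F p - 1) / dd F p = 0 := Nat.div_eq_of_lt (Nat.sub_lt hp.dd_pos one_pos)
  rw [h1, nu_zero, add_zero, NN_one hp.dd_pos, nu_one] at h
  exact h

/-- the abelian subgroup of an orthogonal atom -/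
theorem tor_orth {π : Set ℕ} {d : ℕ} {σ : ℤ} {M : Spc F} (hπ : ∀ p ∈ π, Good F p) (hdd : ∀ p ∈ π, dd F p = d)
    (hs : ∀ p ∈ π, sg F p = σ) (hd : 0 < d) (hM : IsOE d σ M) : PT π M.G := by
  obtain ⟨y, hy⟩ := exists_torus hd hM
  refine ⟨Subgroup.zpowers y, inferInstance, fun p hp => ?_⟩
  have hpg := hπ p hp
  rw [not_dvd_index_iff hpg.prime, hM.evE hpg, hdd p hp, hs p hp, NN_one hd, nu_one, H17.CR.ev, Nat.card_zpowers,
    ← H749.vp_natCast, hy, ← vp_atom hpg, hdd p hp, hs p hp]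

/-- **`Sp_{2m}(F)`** -/
theorem crossTri_Sp (r : ℕ) [Fact r.Prime] (F : Type) [Field F] [Fintype F] [CharP F r] (m : ℕ) :
    CrossTri r ↥(Matrix.symplecticGroup (Fin m) F) := by
  obtain ⟨e⟩ := (isSp_std (F := F) m).equiv
  exact CrossTri.congr e.symm (crossTri (famSp F) (fun h => h.elim) (Fact.out : r.Prime) (n := m) (ε := 1)
    ⟨isSp_std m, Or.inl rfl⟩)

/-- **`PSp_{2m}(F)`** -/
theorem crossTri_PSp (r : ℕ) [Fact r.Prime] (F : Type) [Field F] [Fintype F] [CharP F r] (m : ℕ) :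
    CrossTri r (Cfsg.PSp m F) := by
  refine CrossTri.quot (QuotientGroup.mk' (Subgroup.center ↥(Matrix.symplecticGroup (Fin m) F)))
    (QuotientGroup.mk'_surjective _) ?_ (crossTri_Sp r F m)
  rw [QuotientGroup.ker_mk']

/-- from the isometry group to `POmega` -/
theorem crossTri_POmega_of {r : ℕ} {ι : Type} [Fintype ι] [DecidableEq ι] (Q : QuadraticForm F (ι → F)) (hQ : Nondeg Q)
    (h5 : 5 ≤ Fintype.card ι) (h : CrossTri r (isometryGroup F ⇑Q)) : CrossTri r (POmega F ⇑Q) := by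
  have h1 : CrossTri r (Omega F ⇑Q) :=
    CrossTri.of_normal (Omega F ⇑Q) (exists_index_two_pow _ (mul_self_mem_Omega Q hQ h5)) h
  refine CrossTri.quot (QuotientGroup.mk' (Subgroup.center (Omega F ⇑Q))) (QuotientGroup.mk'_surjective _) ?_ h1
  rw [QuotientGroup.ker_mk']

theorem crossTri_POmegaPlus (r : ℕ) [Fact r.Prime] (F : Type) [Field F] [Fintype F] [CharP F r] (m : ℕ) (hm : 3 ≤ m) :
    CrossTri r (Cfsg.POmega F (Cfsg.quadFormPlus m F)) := by
  rw [← coe_plusForm]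
  refine crossTri_POmega_of _ (nondeg_plusForm m F) ?_ ?_
  · rw [Fintype.card_sum, Fintype.card_fin]
    omega
  · rw [coe_plusForm]
    obtain ⟨e⟩ := (isOE_plus (F := F) m).plusEquiv (by omega)
    exact CrossTri.congr e.symm (crossTri (famEven F) (fun _ {_ _ _ _} h1 h2 h3 h4 h5 => tor_orth h1 h2 h3 h4 h5)
      (Fact.out : r.Prime) (isOE_plus (F := F) m))

theorem crossTri_POmegaMinus (r : ℕ) [Fact r.Prime] (F : Type) [Field F] [Fintype F] [CharP F r] (m : ℕ) (a b : F)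
    (hm : 3 ≤ m) (hab : ∀ z₁ z₂ : F, z₁ ^ 2 + a * z₁ * z₂ + b * z₂ ^ 2 = 0 → z₁ = 0 ∧ z₂ = 0) :
    CrossTri r (Cfsg.POmega F (Cfsg.quadFormMinus (m - 1) F a b)) := by
  rw [← coe_minusForm]
  refine crossTri_POmega_of _ (nondeg_minusForm (m - 1) F a b hab) ?_ ?_
  · simp only [Fintype.card_sum, Fintype.card_fin]
    omega
  · rw [coe_minusForm]
    have h1 := isOE_minus (F := F) (m - 1) hab
    obtain ⟨e⟩ := h1.minusEquiv (by omega) hab
    exact CrossTri.congr e.symm (crossTri (famEven F) (fun _ {_ _ _ _} h1 h2 h3 h4 h5 => tor_orth h1 h2 h3 h4 h5)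
      (Fact.out : r.Prime) h1)

theorem crossTri_POmegaOdd (r : ℕ) [Fact r.Prime] (F : Type) [Field F] [Fintype F] [CharP F r] (m : ℕ) (hm : 2 ≤ m)
    (hF : Odd (Fintype.card F)) : CrossTri r (Cfsg.POmega F (Cfsg.quadFormOdd m F)) := by
  have h2 : (2 : F) ≠ 0 := H377.OOdd.two_ne_zero_of_odd (by rwa [Nat.card_eq_fintype_card])
  rw [← coe_oddForm]
  refine crossTri_POmega_of _ (nondeg_oddForm m F h2) ?_ ?_
  · simp only [Fintype.card_sum, Fintype.card_fin, Fintype.card_unit]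
    omega
  · rw [coe_oddForm]
    obtain ⟨e⟩ := (isOO_std h2 m).oddEquiv
    exact CrossTri.congr e.symm (crossTri (famOdd F hF h2) (fun _ {_ _ _ _} h1 h2 h3 h4 h5 => tor_orth h1 h2 h3 h4 h5)
      (Fact.out : r.Prime) (n := m) (ε := 1) ⟨isOO_std h2 m, Or.inl rfl⟩)

end Cfsg.Agent.H896.Tri3
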