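import Cfsg.Agent.H17.CR.Fam
import Cfsg.Agent.H165.Tri

/-!
# Families of classical groups: transitivity of `Cond {p, q}` in cross characteristic (helper896, task 2136, for S4335)

`Fam.crossTri` : helper17's `Fam.row` for three primes, only the two pairs containing the first one are used.
-/

set_option autoImplicit false
set_option linter.unusedSectionVars false

open Cfsg
open Cfsg.Agent.H749 (Iso)
open Cfsg.Agent.H630.NH Cfsg.Agent.H17.CR Cfsg.Agent.H165.TriRow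

namespace Cfsg.Agent.H896.Tri3

universe u

theorem PT.mono {π π' : Set ℕ} {G : Type u} [Group G] (h : PT π G) (hs : π' ⊆ π) : PT π' G := by
  obtain ⟨T, hT, h1⟩ := h
  exact ⟨T, hT, fun p hp => h1 p (hs hp)⟩

section Star

variable {F : Type} [Field F] {X Y : Spc F}

/-- the abelian subgroup of one block, from the pairs containing `q` -/
theorem PT.of_star {π : Set ℕ} (hπ : ∀ p ∈ π, p.Prime) {q : ℕ} (hqp : q.Prime)
    (hc : ∀ p ∈ π, p ≠ q → Cond {q, p} (X.prod Y).G)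
    (hv : ∀ p ∈ π, ev p (X.prod Y).G = ev p X.G + ev p Y.G) (hd : q ∣ Nat.card X.G)
    (hfix : ∀ a : X.G, orderOf a = q → ∀ u, a.1 u = u → u = 0)
    (hcomm : ∀ a : X.G, orderOf a = q → ∀ z z' : X.G, z * a = a * z → z' * a = a * z' → z * z' = z' * z) :
    PT π X.G := by
  have hqf := Fact.mk hqp
  obtain ⟨S⟩ := (inferInstance : Nonempty (Sylow q X.G))
  have hS : Nontrivial (S : Subgroup X.G) := by
    rw [Subgroup.nontrivial_iff_ne_bot]
    intro hb
    have h1 := S.not_dvd_index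
    rw [hb, Subgroup.index_bot] at h1
    exact h1 hd
  have hZ : Nontrivial (Subgroup.center (S : Subgroup X.G)) := S.isPGroup'.center_nontrivial
  have hdZ : q ∣ Nat.card (Subgroup.center (S : Subgroup X.G)) := by
    obtain ⟨n, hn⟩ := IsPGroup.iff_card.1 (S.isPGroup'.to_subgroup (Subgroup.center (S : Subgroup X.G)))
    rw [hn]
    refine dvd_pow_self q ?_
    rintro rfl
    have h2 : 1 < Nat.card (Subgroup.center (S : Subgroup X.G)) := Finite.one_lt_card
    rw [hn, pow_zero] at h2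
    exact lt_irrefl _ h2
  obtain ⟨⟨⟨y, hyS⟩, hyZ⟩, hy⟩ := exists_prime_orderOf_dvd_card' q hdZ
  have hyo : orderOf y = q := by
    have e1 := Subgroup.orderOf_mk (⟨y, hyS⟩ : (S : Subgroup X.G)) hyZ
    have e2 := Subgroup.orderOf_mk y hyS
    rw [← hy, e1, e2]
  have hfx := hfix y hyo
  set T : Subgroup X.G := Subgroup.centralizer ({y} : Set X.G) with hTdef
  have hST : (S : Subgroup X.G) ≤ T := by
    intro s hs
    rw [hTdef, mem_centralizer]
    have := Subgroup.mem_center_iff.1 hyZ ⟨s, hs⟩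
    exact congrArg Subtype.val this
  refine ⟨T, ?_, fun p hp => ?_⟩
  · constructor
    constructor
    rintro ⟨z, hz⟩ ⟨z', hz'⟩
    exact Subtype.ext (hcomm y hyo z z' (mem_centralizer.1 hz) (mem_centralizer.1 hz'))
  · by_cases hpq : p = q
    · subst hpq
      intro h
      exact S.not_dvd_index (h.trans (Subgroup.index_dvd_of_le hST))
    · have hpp := hπ p hp
      have n1 : NI y.1 (1 : Y.G).1 := NI.one_right hfx
      have n2 : NI (1 : Y.G).1 y.1 := NI.one_left hfx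
      have h1 := ev_centralizer_le p n1 n2
      have hyo' : ∃ k : ℕ, orderOf (emb X Y (y, 1)) = q ^ k := by
        refine ⟨1, ?_⟩
        rw [orderOf_injective (emb X Y) emb_injective, Prod.orderOf, pow_one]
        simp [hyo]
      have h2 := hc p hp hpq q (by simp) p (by simp) (Ne.symm hpq) _ hyo'
      rw [not_dvd_index_iff hpp] at h2
      rw [not_dvd_index_iff hpp]
      have h3 := hv p hp
      have h4 := ev_subgroup_le p (Subgroup.centralizer ({(1 : Y.G)} : Set Y.G))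
      have h5 := ev_subgroup_le p T
      rw [← hTdef] at h1
      omega

end Star

variable {F : Type} [Field F] [Fintype F] (Φ : Fam F)

/-- pairs of different dimensions -/
theorem dd_eq_of_cond {p q : ℕ} (hp : Good F p) (hq : Good F q) {n : ℕ} {ε : ℤ} {X : Spc F} (hX : Φ.T n ε X)
    (hdp : p ∣ Nat.card X.G) (hdq : q ∣ Nat.card X.G) (hc : Cond {p, q} X.G) : dd F p = dd F q := by
  have hπ : ∀ s ∈ ({p, q} : Set ℕ), Good F s := by
    rintro s (rfl | rfl)
    · exact hp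
    · exact hq
  have hdv : ∀ s ∈ ({p, q} : Set ℕ), s ∣ Nat.card X.G := by
    rintro s (rfl | rfl)
    · exact hdp
    · exact hdq
  rcases lt_trichotomy (dd F p) (dd F q) with h | h | h
  · exact absurd hc (Φ.not_cond_of_dd hπ hX hdv (by simp) (by simp) h)
  · exact h
  · exact absurd hc (Φ.not_cond_of_dd hπ hX hdv (p := q) (q := p) (by simp) (by simp) h)

/-- two primes of different signs -/
theorem two_of_cond {p₀ p₁ : ℕ} (hp₀ : Good F p₀) (hp₁ : Good F p₁) {d : ℕ} (hd₀ : dd F p₀ = d) (hd₁ : dd F p₁ = d)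
    {n : ℕ} {ε : ℤ} {X : Spc F} (hX : Φ.T n ε X) (hdv₀ : p₀ ∣ Nat.card X.G) (hdv₁ : p₁ ∣ Nat.card X.G)
    (hs₁ : Φ.s p₀ ≠ Φ.s p₁) (hc : Cond {p₀, p₁} X.G) : Φ.bT ∧ n = 2 * d ∧ ε = -1 := by
  obtain ⟨π, hπe⟩ : ∃ π : Set ℕ, π = {p₀, p₁} := ⟨_, rfl⟩
  rw [← hπe] at hc
  have m₀ : p₀ ∈ π := by rw [hπe]; simp
  have m₁ : p₁ ∈ π := by rw [hπe]; simp
  have hπ : ∀ s ∈ π, Good F s := by
    rw [hπe]
    rintro s (rfl | rfl)
    · exact hp₀
    · exact hp₁
  have hdv : ∀ s ∈ π, s ∣ Nat.card X.G := by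
    rw [hπe]
    rintro s (rfl | rfl)
    · exact hdv₀
    · exact hdv₁
  have hdd : ∀ s ∈ π, dd F s = d := by
    rw [hπe]
    rintro s (rfl | rfl)
    · exact hd₀
    · exact hd₁
  have hd0 : 0 < d := by rw [← hd₀]; exact hp₀.dd_pos
  have hpart : ∀ p ∈ π, ∃ q ∈ π, Φ.s p ≠ Φ.s q := by
    intro p hp
    by_cases h : Φ.s p = Φ.s p₀
    · exact ⟨p₁, m₁, by rw [h]; exact hs₁⟩
    · exact ⟨p₀, m₀, h⟩
  have hneg : ∀ p ∈ π, ∀ q ∈ π, Φ.s p ≠ Φ.s q → Φ.s q = - Φ.s p := by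
    intro p hp q hq hpq
    rcases Φ.sgn (hπ p hp) with h | h <;> rcases Φ.sgn (hπ q hq) with h' | h' <;> rw [h, h'] at hpq ⊢
    · exact absurd rfl hpq
    · norm_num
    · exact absurd rfl hpq
  have hNN : ∀ p ∈ π, 1 ≤ NN Φ.bT d (Φ.s p) n ε := by
    intro p hp
    by_contra h
    have h2 : NN Φ.bT d (Φ.s p) n ε = 0 := by omega
    have h3 := Φ.evT hX (hπ p hp)
    rw [hdd p hp, h2, nu_zero] at h3
    exact not_dvd_of_ev (hπ p hp).prime h3 (hdv p hp)
  have hdn : d ≤ n := by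
    have := NN_mul_le (Φ.s p₀) ε (hNN p₀ m₀)
    rwa [one_mul] at this
  by_cases hb : Φ.bT ∧ d ∣ n
  swap
  · exfalso
    refine Φ.not_cond_one hπ hdd hX m₀ m₁ hs₁ hdn (fun h h' => absurd ⟨h, by rw [h']⟩ hb) ?_ hc
    have h1 : NN Φ.bT d (Φ.s p₀) n ε = n / d := if_neg fun h => hb ⟨h.1, h.2.1⟩
    have h2 : NN Φ.bT d (Φ.s p₀) (n - d) (ε * Φ.s p₁) = (n - d) / d := if_neg fun h => hb ⟨h.1, by
      have := dvd_add h.2.1 (dvd_refl d)
      rwa [Nat.sub_add_cancel hdn] at this⟩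
    rw [h1, h2]
    have h3 : n / d = (n - d) / d + 1 := by
      rw [← Nat.add_div_right _ hd0, Nat.sub_add_cancel hdn]
    omega
  obtain ⟨hbT, k, hk⟩ := hb
  subst hk
  have hkd : d * k / d = k := Nat.mul_div_cancel_left k hd0
  have hk1 : 1 ≤ k := by
    rcases Nat.eq_zero_or_pos k with h | h
    · rw [h] at hdn
      omega
    · exact h
  have hne : ∀ p ∈ π, Φ.s p ^ k ≠ ε := by
    intro p hp heq
    obtain ⟨q, hq, hpq⟩ := hpart p hp
    have hq' := hneg p hp q hq hpq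
    have h1 : NN Φ.bT d (Φ.s p) (d * k) ε = k := by
      unfold NN
      rw [hkd, if_neg (fun h => h.2.2 heq)]
    refine Φ.not_cond_one hπ hdd hX hp hq hpq hdn (fun _ h => ?_) ?_ hc
    · exfalso
      have hk1' : k = 1 := by
        have : d * k = d * 1 := by omega
        exact Nat.eq_of_mul_eq_mul_left hd0 this
      have h2 := hNN q hq
      rw [hk1', mul_one, NN_ne hbT hd0] at h2
      · omega
      · rw [← heq, hk1', pow_one]
        exact hpq.symm
    · have h3 : (d * k - d) / d = k - 1 := by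
        rw [← Nat.mul_sub_one, Nat.mul_div_cancel_left _ hd0]
      have h4 : NN Φ.bT d (Φ.s p) (d * k - d) (ε * Φ.s q) ≤ k - 1 := by
        have := NN_le (b := Φ.bT) (d := d) (n := d * k - d) (Φ.s p) (ε * Φ.s q)
        rwa [h3] at this
      rw [h1]
      omega
  obtain ⟨p, hp, q, hq, hpq, hlt⟩ : ∃ p ∈ π, ∃ q ∈ π, Φ.s p ≠ Φ.s q ∧ p < q := by
    rcases lt_trichotomy p₀ p₁ with h | h | h
    · exact ⟨p₀, m₀, p₁, m₁, hs₁, h⟩
    · exact absurd (by rw [h]) hs₁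
    · exact ⟨p₁, m₁, p₀, m₀, hs₁.symm, h⟩
  have hε : ε = -1 := by
    rcases Φ.signT hX with h | h
    · exfalso
      rcases Φ.sgn (hπ p hp) with h' | h'
      · exact hne p hp (by rw [h', one_pow, h])
      · refine hne q hq ?_
        rw [hneg p hp q hq hpq, h', neg_neg, one_pow, h]
    · exact h
  have hev : Even k := by
    rw [← Nat.not_odd_iff_even]
    intro hodd
    rcases Φ.sgn (hπ p hp) with h' | h'
    · refine hne q hq ?_
      rw [hneg p hp q hq hpq, h', hodd.neg_one_pow, hε]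
    · exact hne p hp (by rw [h', hodd.neg_one_pow, hε])
  rcases Nat.lt_or_ge 2 k with hk2 | hk2
  · exfalso
    refine Φ.not_cond_two hπ hdd hX hp hq hpq hlt ?_ ?_ hc
    · rw [mul_comm]
      exact Nat.mul_lt_mul_of_pos_left hk2 hd0
    · have h1 : NN Φ.bT d (Φ.s p) (d * k) ε = k - 1 := by
        unfold NN
        rw [hkd, if_pos ⟨hbT, Dvd.intro k rfl, hne p hp⟩]
      have h3 : (d * k - 2 * d) / d = k - 2 := by
        rw [mul_comm 2 d, ← Nat.mul_sub, Nat.mul_div_cancel_left _ hd0]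
      have h4 : NN Φ.bT d (Φ.s p) (d * k - 2 * d) ε ≤ k - 2 := by
        have := NN_le (b := Φ.bT) (d := d) (n := d * k - 2 * d) (Φ.s p) ε
        rwa [h3] at this
      rw [h1]
      omega
  · have hk' : k = 2 := by
      rcases hev with ⟨m, hm⟩
      omega
    exact ⟨hbT, by rw [hk', mul_comm], hε⟩

/-- the number of atoms is less than the two primes, equal signs -/
theorem lt_of_pair {p q : ℕ} (hp : Good F p) (hq : Good F q) (hne : p ≠ q) {d : ℕ} {σ : ℤ} (hd₀ : dd F p = d)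
    (hd₁ : dd F q = d) (hs₀ : Φ.s p = σ) (hs₁ : Φ.s q = σ) {n : ℕ} {ε : ℤ} {X : Spc F} (hX : Φ.T n ε X)
    (hc : Cond {p, q} X.G) : NN Φ.bT d σ n ε < p ∧ NN Φ.bT d σ n ε < q := by
  have hd0 : 0 < d := by rw [← hd₀]; exact hp.dd_pos
  have hσ : σ = 1 ∨ σ = -1 := by rw [← hs₀]; exact Φ.sgn hp
  have hπ : ∀ s ∈ ({p, q} : Set ℕ), Good F s := by
    rintro s (rfl | rfl)
    · exact hp
    · exact hq
  have hdd : ∀ s ∈ ({p, q} : Set ℕ), dd F s = d := by
    rintro s (rfl | rfl)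
    · exact hd₀
    · exact hd₁
  have hss : ∀ s ∈ ({p, q} : Set ℕ), Φ.s s = σ := by
    rintro s (rfl | rfl)
    · exact hs₀
    · exact hs₁
  have S := Φ.sys hd0 hσ hπ hdd hss
  have h2d : ∀ s ∈ ({p, q} : Set ℕ), 2 * d + 1 ≤ s := by
    intro s hs
    have := (hπ s hs).two_dd
    rwa [hdd s hs] at this
  rcases lt_or_gt_of_ne hne with h | h
  · have h1 : NN Φ.bT d σ n ε < p := (Φ.sys hd0 hσ hπ hdd hss).lt_of_cond (t := (n, ε)) (fun s hs => (hπ s hs).prime) h2d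
      (fun s hs => (hπ s hs).vv_pos) hX hc (p := p) (q := q) (by simp) (by simp) h
    exact ⟨h1, h1.trans h⟩
  · have h1 : NN Φ.bT d σ n ε < q := (Φ.sys hd0 hσ hπ hdd hss).lt_of_cond (t := (n, ε)) (fun s hs => (hπ s hs).prime) h2d
      (fun s hs => (hπ s hs).vv_pos) hX hc (p := q) (q := p) (by simp) (by simp) h
    exact ⟨h1.trans h, h1⟩

/-- **three primes** -/
theorem tri (hTor : Φ.bE → ∀ {π : Set ℕ} {d : ℕ} {σ : ℤ} {M : Spc F}, (∀ p ∈ π, Good F p) → (∀ p ∈ π, dd F p = d) →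
      (∀ p ∈ π, Φ.s p = σ) → 0 < d → Φ.E d σ M → PT π M.G)
    {r q₁ q₂ : ℕ} (hr : Good F r) (h₁ : Good F q₁) (h₂ : Good F q₂) (hr1 : r ≠ q₁) (hr2 : r ≠ q₂)
    {n : ℕ} {ε : ℤ} {X : Spc F} (hX : Φ.T n ε X) (hdr : r ∣ Nat.card X.G) (hd1 : q₁ ∣ Nat.card X.G)
    (hd2 : q₂ ∣ Nat.card X.G) (hc₁ : Cond {r, q₁} X.G) (hc₂ : Cond {r, q₂} X.G) : PT {q₁, q₂} X.G := by
  obtain ⟨d, hd⟩ : ∃ d, d = dd F r := ⟨_, rfl⟩
  have e1 : dd F q₁ = d := by rw [hd]; exact (dd_eq_of_cond Φ hr h₁ hX hdr hd1 hc₁).symm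
  have e2 : dd F q₂ = d := by rw [hd]; exact (dd_eq_of_cond Φ hr h₂ hX hdr hd2 hc₂).symm
  have hd0 : 0 < d := by rw [hd]; exact hr.dd_pos
  by_cases hs : Φ.s q₁ = Φ.s r ∧ Φ.s q₂ = Φ.s r
  · -- equal signs
    obtain ⟨hs1, hs2⟩ := hs
    have a1 := lt_of_pair Φ hr h₁ hr1 hd.symm e1 rfl hs1 hX hc₁
    have a2 := lt_of_pair Φ hr h₂ hr2 hd.symm e2 rfl hs2 hX hc₂
    obtain ⟨π, hπe⟩ : ∃ π : Set ℕ, π = {r, q₁, q₂} := ⟨_, rfl⟩
    have hπ : ∀ s ∈ π, Good F s := by
      rw [hπe]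
      rintro s (rfl | rfl | rfl)
      · exact hr
      · exact h₁
      · exact h₂
    have hdd : ∀ s ∈ π, dd F s = d := by
      rw [hπe]
      rintro s (rfl | rfl | rfl)
      · exact hd.symm
      · exact e1
      · exact e2
    have hss : ∀ s ∈ π, Φ.s s = Φ.s r := by
      rw [hπe]
      rintro s (rfl | rfl | rfl)
      · rfl
      · exact hs1
      · exact hs2
    have hlt : ∀ s ∈ π, NN Φ.bT d (Φ.s r) n ε < s := by
      rw [hπe]
      rintro s (rfl | rfl | rfl)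
      · exact a1.1
      · exact a1.2
      · exact a2.2
    have hcs : ∀ s ∈ π, s ≠ r → Cond {r, s} X.G := by
      rw [hπe]
      rintro s (rfl | rfl | rfl) hne
      · exact absurd rfl hne
      · exact hc₁
      · exact hc₂
    have hrπ : r ∈ π := by rw [hπe]; simp
    have hpr : ∀ s ∈ π, s.Prime := fun s hs => (hπ s hs).prime
    let S := Φ.sys hd0 (Φ.sgn hr) hπ hdd hss
    have hN : 1 ≤ NN Φ.bT d (Φ.s r) n ε := by
      by_contra h
      have h2 : NN Φ.bT d (Φ.s r) n ε = 0 := by omega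
      have h3 := Φ.evT hX hr
      rw [← hd, h2, nu_zero] at h3
      exact not_dvd_of_ev hr.prime h3 hdr
    obtain ⟨M, hM⟩ := S.one
    obtain ⟨t', X', hX', hN', hsp⟩ := S.split (t := (n, ε)) hX 1 hN
    obtain ⟨e⟩ := hsp M hM
    have hNt : S.N (n, ε) = NN Φ.bT d (Φ.s r) n ε := rfl
    have hPT : PT π M.G := by
      refine PT.of_star (X := M) (Y := X') hpr hr.prime (fun s hs hne => (hcs s hs hne).congr e) (fun p hp => ?_) ?_
        (S.fix hM r hrπ) (S.comm hM r hrπ)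
      · rw [← ev_congr p e, S.evX (t := (n, ε)) hX p hp, S.evX hX' p hp, S.evU hM p hp, hN', hNt,
          nu_small (hpr p hp) (hlt p hp), nu_one, nu_small (hpr p hp) (lt_of_le_of_lt (Nat.sub_le _ _) (hlt p hp))]
        obtain ⟨m, hm⟩ : ∃ m, NN Φ.bT d (Φ.s r) n ε = m + 1 := ⟨NN Φ.bT d (Φ.s r) n ε - 1, by omega⟩
        rw [hm, Nat.add_sub_cancel]
        ring
      · by_contra h
        have h1 := ev_eq_zero h
        rw [S.evU hM r hrπ, nu_one] at h1
        exact hr.vv_pos.ne' h1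
    have hall := S.pt_of_small hpr hM hPT _ (t := (n, ε)) hX rfl hlt
    refine PT.mono hall ?_
    rw [hπe]
    rintro s (rfl | rfl)
    · simp
    · simp
  · -- different signs
    have key : Φ.bT ∧ n = 2 * d ∧ ε = -1 := by
      by_cases hs1 : Φ.s q₁ = Φ.s r
      · have hs2 : Φ.s r ≠ Φ.s q₂ := fun h => hs ⟨hs1, h.symm⟩
        exact two_of_cond Φ hr h₂ hd.symm e2 hX hdr hd2 hs2 hc₂
      · exact two_of_cond Φ hr h₁ hd.symm e1 hX hdr hd1 (fun h => hs1 h.symm) hc₁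
    obtain ⟨hb, hn, hε⟩ := key
    subst hn hε
    have hbE := Φ.bET hb
    have hπ : ∀ s ∈ ({q₁, q₂} : Set ℕ), Good F s := by
      rintro s (rfl | rfl)
      · exact h₁
      · exact h₂
    have hdd : ∀ s ∈ ({q₁, q₂} : Set ℕ), dd F s = d := by
      rintro s (rfl | rfl)
      · exact e1
      · exact e2
    have hpr : ∀ s ∈ ({q₁, q₂} : Set ℕ), s.Prime := fun s hs => (hπ s hs).prime
    -- every atom
    have hatom : ∀ {σ : ℤ} {M : Spc F}, Φ.E d σ M → PT {q₁, q₂} M.G := by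
      intro σ M hM
      obtain ⟨T, hT, hi⟩ := hTor hbE (π := {s | s ∈ ({q₁, q₂} : Set ℕ) ∧ Φ.s s = σ}) (fun p hp => hπ p hp.1)
        (fun p hp => hdd p hp.1) (fun p hp => hp.2) hd0 hM
      refine ⟨T, hT, fun p hp hdvd => ?_⟩
      by_cases hps : Φ.s p = σ
      · exact hi p ⟨hp, hps⟩ hdvd
      · have h3 := Φ.evE hM (hπ p hp)
        rw [hdd p hp, NN_ne hbE hd0 hps, nu_zero] at h3
        exact not_dvd_of_ev (hpr p hp) h3 (hdvd.trans (Subgroup.index_dvd_card T))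
    -- the decomposition
    have hsq := Φ.sgn h₁
    obtain ⟨M, hM⟩ := Φ.existsE (n := d) hd0 hsq
    obtain ⟨X', hX', h1⟩ := Φ.splitT hX (m := d) (ε' := Φ.s q₁) (by omega) hsq (fun _ hm => by omega)
    have h2 : 2 * d - d = d := by omega
    rw [h2, neg_one_mul] at hX'
    have hE' := Φ.toE hb hX'
    obtain ⟨e⟩ := h1 M hM
    have hv : ∀ s ∈ ({q₁, q₂} : Set ℕ), ev s (M.prod X').G = ev s M.G + ev s X'.G := by
      intro s hs'
      have hsg := hπ s hs'
      rw [← ev_congr s e, Φ.evT hX hsg, Φ.evE hM hsg, Φ.evE hE' hsg, hdd s hs']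
      have h3 : NN Φ.bT d (Φ.s s) (2 * d) (-1) = 1 := by
        unfold NN
        rw [Nat.mul_div_cancel _ hd0, if_pos ⟨hb, Dvd.intro_left 2 rfl, by
          rw [sq, pm_sq (Φ.sgn hsg)]; norm_num⟩]
      by_cases hse : Φ.s s = Φ.s q₁
      · have hne : Φ.s q₁ ≠ -Φ.s q₁ := by
          rcases hsq with h | h <;> rw [h] <;> norm_num
        rw [h3, hse, NN_one hd0, NN_ne hbE hd0 hne, nu_zero, add_zero]
      · have h4 : Φ.s s = - Φ.s q₁ := by
          rcases hsq with h | h <;> rcases Φ.sgn hsg with h' | h' <;> rw [h, h'] at hse ⊢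
          · exact absurd rfl hse
          · norm_num
          · exact absurd rfl hse
        rw [h3, NN_ne hbE hd0 hse, h4, NN_one hd0, nu_zero, zero_add]
    exact PT.congr (PT.prod hpr (hatom hM) (hatom hE') hv) e.symm

theorem good_of' {F : Type} [Field F] {r : ℕ} (hr : r.Prime) [CharP F r] {p : ℕ} (hp : p.Prime) (h2 : p ≠ 2)
    (hpr : p ≠ r) : Good F p := by
  refine ⟨hp, h2, fun h => ?_⟩
  rw [CharP.cast_eq_zero_iff F r] at h
  exact hpr ((Nat.prime_dvd_prime_iff_eq hr hp).1 h).symm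

/-- **transitivity for a family** -/
theorem crossTri (hTor : Φ.bE → ∀ {π : Set ℕ} {d : ℕ} {σ : ℤ} {M : Spc F}, (∀ p ∈ π, Good F p) →
      (∀ p ∈ π, dd F p = d) → (∀ p ∈ π, Φ.s p = σ) → 0 < d → Φ.E d σ M → PT π M.G)
    {t : ℕ} (ht : t.Prime) [CharP F t] {n : ℕ} {ε : ℤ} {X : Spc F} (hX : Φ.T n ε X) : CrossTri t X.G := by
  refine CrossTri.of_torus fun r q₁ q₂ hr h₁ h₂ a b c d e f g i j k l m hc₁ hc₂ => ?_
  obtain ⟨T, hT, hi⟩ := tri Φ hTor (good_of' ht hr a d) (good_of' ht h₁ b e) (good_of' ht h₂ c f) g i hX k l m hc₁ hc₂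
  exact ⟨T, hT, hi q₁ (by simp), hi q₂ (by simp)⟩

end Cfsg.Agent.H896.Tri3
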